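import Cfsg.Agent.Lib.Sporadic.PairEnum.Check

set_option autoImplicit false

/-!
Soundness of closure certificates with letters in inverse pairs (owner: helper25).
-/

namespace CfsgLib.Sporadic.PairEnum

open CfsgLib.ThreeTrans.CosetIndex (fld fsrc fdst flet eqLetter actW actW_append actW_eq Good forallFrom forallFrom_elim)
open CfsgLib.Recog.SporBound (Q)

variable {G : Type*} [Group G] {a : ℕ → G}

theorem prod_winv (hinv : ∀ x, a (flp x) = (a x)⁻¹) (w : List ℕ) :
    ((winv w).map a).prod = ((w.map a).prod)⁻¹ := by
  induction w with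
  | nil => simp [winv]
  | cons x w ih => simp [winv, List.map_append, List.prod_append] at *; simp [ih, hinv]

theorem prod_reverse_winv (hinv : ∀ x, a (flp x) = (a x)⁻¹) (w : List ℕ) :
    ((winv w).reverse.map a).prod = ((w.reverse.map a).prod)⁻¹ := by
  rw [show (winv w).reverse = winv w.reverse by simp [winv], prod_winv hinv]

variable {X : Type*} [MulAction G X] (hinv : ∀ x, a (flp x) = (a x)⁻¹)
include hinv

theorem actW_winv (w : List ℕ) (q : X) : actW a (winv w) (actW a w q) = q := by
  rw [actW_eq, actW_eq, prod_reverse_winv hinv, inv_smul_smul]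

theorem actW_winv' (w : List ℕ) (q : X) : actW a w (actW a (winv w) q) = q := by
  rw [actW_eq, actW_eq, prod_reverse_winv hinv, smul_inv_smul]

theorem actW_rotate' {w : List ℕ} (h : ∀ q : X, actW a w q = q) (k : ℕ) (q : X) :
    actW a (w.drop k ++ w.take k) q = q := by
  set u := w.take k
  set v := w.drop k
  have h' : ∀ q : X, actW a v (actW a u q) = q := fun q => by rw [← actW_append, List.take_append_drop]; exact h q
  rw [actW_append]
  have h2 := h' (actW a (winv u) q)
  rw [actW_winv' hinv] at h2
  rw [h2, actW_winv' hinv]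

theorem step_sound {v : ℕ → X} {f : ℕ} (he : a eqLetter = 1) (hf : Good a v f) {s s' : ℕ × List ℕ}
    (h : step f s = some s') : ∃ u, s.2 = u ++ s'.2 ∧ actW a u (v s.1) = v s'.1 := by
  obtain ⟨c, w⟩ := s
  unfold step at h
  cases hl : Nat.beq (flet f) eqLetter with
  | true =>
    simp only [hl, cond_true] at h
    have hfe : v (fsrc f) = v (fdst f) := by
      have := hf
      unfold Good at this
      rwa [Nat.eq_of_beq_eq_true hl, he, one_smul] at this
    cases hs : Nat.beq (fsrc f) c with
    | true =>
      simp only [hs, cond_true, Option.some.injEq] at h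
      subst h
      exact ⟨[], rfl, by rw [← Nat.eq_of_beq_eq_true hs]; exact hfe⟩
    | false =>
      simp only [hs, cond_false] at h
      cases hd : Nat.beq (fdst f) c with
      | true =>
        simp only [hd, cond_true, Option.some.injEq] at h
        subst h
        exact ⟨[], rfl, by rw [← Nat.eq_of_beq_eq_true hd]; exact hfe.symm⟩
      | false => simp [hd] at h
  | false =>
    simp only [hl, cond_false] at h
    cases w with
    | nil => simp at h
    | cons y ys =>
      cases h1 : (Nat.beq (fsrc f) c && Nat.beq y (flet f)) with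
      | true =>
        simp only [h1, cond_true, Option.some.injEq] at h
        subst h
        rw [Bool.and_eq_true] at h1
        refine ⟨[y], rfl, ?_⟩
        rw [Nat.eq_of_beq_eq_true h1.2, ← Nat.eq_of_beq_eq_true h1.1]
        exact hf
      | false =>
        simp only [h1, cond_false] at h
        cases h2 : (Nat.beq (fdst f) c && Nat.beq y (flp (flet f))) with
        | true =>
          simp only [h2, cond_true, Option.some.injEq] at h
          subst h
          rw [Bool.and_eq_true] at h2
          refine ⟨[y], rfl, ?_⟩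
          rw [Nat.eq_of_beq_eq_true h2.2, ← Nat.eq_of_beq_eq_true h2.1]
          show a (flp (flet f)) • v (fdst f) = v (fsrc f)
          rw [hinv, inv_smul_eq_iff]
          exact hf.symm
        | false => simp [h2] at h

namespace Cert

variable {C : Cert}

theorem walk_sound (he : a eqLetter = 1) {v : ℕ → X} {lim p off : ℕ}
    (hf : ∀ i < lim, Good a v (C.fact i)) : ∀ {k : ℕ} {s s' : ℕ × List ℕ},
      C.walk lim p off k s = some s' → ∃ u, s.2 = u ++ s'.2 ∧ actW a u (v s.1) = v s'.1
  | 0, s, s', h => by
    have : s = s' := Option.some.inj h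
    subst this
    exact ⟨[], rfl, rfl⟩
  | k + 1, s, s', h => by
    have h' : Option.rec none (fun s'' => cond (Nat.blt (fld p (off + k)) lim)
        (step (C.fact (fld p (off + k))) s'') none) (C.walk lim p off k s) = some s' := h
    cases hw : C.walk lim p off k s with
    | none => rw [hw] at h'; simp at h'
    | some m =>
      rw [hw] at h'
      cases hb : Nat.blt (fld p (off + k)) lim with
      | false => simp [hb] at h'
      | true =>
        simp only [hb, cond_true] at h'
        obtain ⟨u, hu, hu'⟩ := walk_sound he hf hw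
        obtain ⟨u', hu1, hu2⟩ := step_sound hinv he (hf _ (by simpa using hb)) h'
        exact ⟨u ++ u', by rw [hu, hu1, List.append_assoc], by rw [actW_append, hu', hu2]⟩

theorem stepOK_sound (he : a eqLetter = 1) {v : ℕ → X} {R : List (List ℕ)} {i p : ℕ}
    (hrel : ∀ w ∈ R, ∀ q : X, actW a w q = q) (hsub : ∀ w ∈ C.subs, actW a w (v 0) = v 0)
    (hf : ∀ j < i, Good a v (C.fact j)) (h : C.stepOK R i p = true) : Good a v (C.fact i) := by
  set r := fld p 0 with hr
  set base := fld p 2 with hbase
  set w := cond (Nat.blt r R.length) ((R.getD r []).drop (fld p 1) ++ (R.getD r []).take (fld p 1))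
    (C.subs.getD (r - R.length) []) with hw
  simp only [stepOK, ← hr, ← hbase, ← hw, Bool.and_eq_true] at h
  obtain ⟨hcase, h⟩ := h
  have hclose : actW a w (v base) = v base := by
    cases hb : Nat.blt r R.length with
    | true =>
      rw [hw, hb, cond_true]
      refine actW_rotate' hinv (hrel _ ?_) _ _
      have : r < R.length := by simpa using hb
      rw [List.getD_eq_getElem _ _ this]
      exact List.getElem_mem this
    | false =>
      rw [hb, Bool.false_or, Bool.and_eq_true] at hcase
      rw [hw, hb, cond_false, Nat.eq_of_beq_eq_true hcase.1]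
      refine hsub _ ?_
      have : r - R.length < C.subs.length := by simpa using hcase.2
      rw [List.getD_eq_getElem _ _ this]
      exact List.getElem_mem this
  cases hF : C.walk i p 5 (fld p 3) (base, w) with
  | none => rw [hF] at h; simp at h
  | some f =>
    rw [hF] at h
    dsimp only at h
    cases hB : C.walk i p (5 + fld p 3) (fld p 4) (base, winv f.2) with
    | none => rw [hB] at h; simp at h
    | some b =>
      rw [hB] at h
      dsimp only at h
      obtain ⟨u, hu, hu'⟩ := walk_sound hinv he hf hF
      obtain ⟨s, hs, hs'⟩ := walk_sound hinv he hf hB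
      dsimp only at hu hu' hs hs'
      have hk : actW a b.2 (v b.1) = v f.1 := by
        rw [← hs', ← actW_append, ← hs]
        conv_lhs => rw [← hclose, hu, actW_append, hu']
        exact actW_winv hinv _ _
      simp only [Bool.and_eq_true, Nat.beq_eq] at h
      obtain ⟨h1, h2, h3⟩ := h
      show a (flet (C.fact i)) • v (fsrc (C.fact i)) = v (fdst (C.fact i))
      rw [h1, h2]
      match hb2 : b.2 with
      | [] =>
        simp only [hb2, Nat.beq_eq] at h3
        rw [h3, he, one_smul]
        rw [hb2] at hk
        exact hk.symm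
      | [x] =>
        simp only [hb2, Bool.and_eq_true, Nat.beq_eq] at h3
        rw [h3.1, hinv, inv_smul_eq_iff]
        rw [hb2] at hk
        exact hk.symm
      | _ :: _ :: _ => simp [hb2] at h3

omit hinv

theorem allIdx_elim {f : ℕ → ℕ → Bool} : ∀ {L : List ℕ} {start : ℕ}, allIdx f L start = true →
    ∀ i, start ≤ i → i < start + L.length → ∃ p, f i p = true
  | [], start, _, i, h1, h2 => absurd h2 (by simp only [List.length_nil]; omega)
  | p :: L, start, h, i, h1, h2 => by
    have h' : (f start p && allIdx f L (start + 1)) = true := h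
    rw [Bool.and_eq_true] at h'
    rcases eq_or_ne i start with rfl | hne
    · exact ⟨p, h'.1⟩
    · simp only [List.length_cons] at h2
      exact allIdx_elim h'.2 i (by omega) (by omega)

theorem chunks_elim {f : ℕ → ℕ → Bool} {T : Q (List ℕ)} {s M : ℕ}
    (h : forallFrom (fun k => allIdx f (T.get k) (s + 64 * k) &&
      (Nat.beq (T.get k).length 64 || Nat.ble M (s + 64 * k + (T.get k).length))) 0 ((M - s + 63) / 64) = true)
    {i : ℕ} (h1 : s ≤ i) (h2 : i < M) : ∃ p, f i p = true := by
  set k := (i - s) / 64 with hk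
  have hh := forallFrom_elim h (i := k) (Nat.zero_le _) (by omega)
  simp only [Bool.and_eq_true, Bool.or_eq_true, Nat.beq_eq, Nat.ble_eq] at hh
  refine allIdx_elim hh.1 i (by omega) ?_
  rcases hh.2 with h64 | hM <;> omega

/-- The hypotheses for using a certificate: letters act in inverse pairs and the relators hold. -/
structure Setup (C : Cert) (a : ℕ → G) : Prop where
  inv : ∀ x, a (flp x) = (a x)⁻¹
  eq : a eqLetter = 1
  rel : ∀ w ∈ C.rels, (w.reverse.map a).prod = 1

/-- The facts of a checked certificate hold among the cosets. -/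
theorem exists_nodes (hS : Setup C a) (hd : forallFrom C.defOK 0 C.nd = true)
    (hs : C.stepsPart C.allRels 0 C.stepChunks = true) (H : Subgroup G)
    (hsub : ∀ w ∈ C.subs, (w.reverse.map a).prod ∈ H) :
    ∃ v : ℕ → G ⧸ H, v 0 = ((1 : G) : G ⧸ H) ∧ ∀ i < C.nf, Good a v (C.fact i) := by
  classical
  have hdef : ∀ i < C.nd, fdst (C.fact i) = i + 1 ∧ fsrc (C.fact i) ≤ i := fun i hi => by
    have := forallFrom_elim hd (Nat.zero_le i) (by omega)
    simp [defOK] at this
    exact ⟨this.1, this.2.1⟩
  let st : ℕ → (ℕ → G ⧸ H) → G ⧸ H := fun i f => a (flet (C.fact i)) • f (fsrc (C.fact i))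
  let tbl : ℕ → (ℕ → G ⧸ H) := fun m => Nat.rec (fun _ => ((1 : G) : G ⧸ H))
    (fun i f => Function.update f (i + 1) (st i f)) m
  let v : ℕ → G ⧸ H := fun j => tbl j j
  have tblS : ∀ i, tbl (i + 1) = Function.update (tbl i) (i + 1) (st i (tbl i)) := fun i => rfl
  have stable : ∀ j m, j ≤ m → tbl m j = v j := by
    intro j m hjm
    induction m with
    | zero => rw [Nat.le_zero.mp hjm]
    | succ m ih =>
      rcases Nat.lt_or_ge j (m + 1) with h | h
      · rw [tblS, Function.update_of_ne (by omega)]; exact ih (by omega)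
      · rw [show j = m + 1 by omega]
  have good_def : ∀ i < C.nd, Good a v (C.fact i) := fun i hi => by
    obtain ⟨h1, h2⟩ := hdef i hi
    show a (flet (C.fact i)) • v (fsrc (C.fact i)) = v (fdst (C.fact i))
    rw [h1]
    show _ = tbl (i + 1) (i + 1)
    rw [tblS, Function.update_self, show st i (tbl i) = a (flet (C.fact i)) • tbl i (fsrc (C.fact i)) from rfl,
      stable _ _ h2]
  have hrel : ∀ w ∈ C.allRels, ∀ q : G ⧸ H, actW a w q = q := by
    intro w hw q
    simp only [allRels, List.mem_append, List.mem_map, List.mem_singleton] at hw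
    rcases hw with ((h | ⟨u, hu, rfl⟩) | ⟨x, -, rfl⟩) | rfl
    · rw [actW_eq, hS.rel w h, one_smul]
    · rw [actW_eq, prod_reverse_winv hS.inv, hS.rel u hu, inv_one, one_smul]
    · simp only [actW]; rw [hS.inv, inv_smul_smul]
    · rfl
  have hsub' : ∀ w ∈ C.subs, actW a w (v 0) = v 0 := fun w hw => by
    rw [actW_eq, show v 0 = ((1 : G) : G ⧸ H) from rfl, MulAction.Quotient.smul_coe, smul_eq_mul, mul_one,
      QuotientGroup.eq]
    simpa using hsub w hw
  refine ⟨v, rfl, fun i => ?_⟩
  induction i using Nat.strong_induction_on with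
  | _ i ih =>
    intro hi
    rcases Nat.lt_or_ge i C.nd with h | h
    · exact good_def i h
    · obtain ⟨p, hp⟩ := chunks_elim (f := C.stepOK C.allRels) hs h hi
      exact stepOK_sound hS.inv hS.eq hrel hsub' (fun j hj => ih j hj (by omega)) hp

/-- A subgroup generated by followed letters has at most `n` times the order of `H`. -/
theorem card_le (hS : Setup C a) (hC : C.OK) (H K : Subgroup G) [Finite H]
    (hsub : ∀ w ∈ C.subs, (w.reverse.map a).prod ∈ H)
    (hK : K ≤ Subgroup.closure {g | ∃ x ∈ C.kl, g = a x}) : Finite K ∧ Nat.card K ≤ C.n * Nat.card H := by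
  classical
  have hn : 0 < C.n ∧ C.nodeOf 0 = 0 ∧ C.nd ≤ C.nf := by simpa [and_assoc] using hC.base
  obtain ⟨v, hv0, good⟩ := exists_nodes hS hC.defs hC.steps H hsub
  let S : Set (G ⧸ H) := (fun c => v (C.nodeOf c)) '' Set.Iio C.n
  have hfin : S.Finite := (Set.finite_Iio _).image _
  have closed : ∀ x ∈ C.kl, ∀ q ∈ S, a x • q ∈ S := by
    rintro x hx _ ⟨c, hc, rfl⟩
    have hlen : 0 < C.kl.length := List.length_pos_of_mem hx
    have hj : C.kl.idxOf x < C.kl.length := List.idxOf_lt_length_iff.mpr hx
    have hf : C.finalsPart 0 C.finalChunks = true := hC.finals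
    rw [finalsPart, finalChunks] at hf
    obtain ⟨p, hp⟩ := chunks_elim (f := C.finalOK) (s := 0) (M := C.n * C.kl.length) (T := C.finals)
      (by simpa using hf) (i := c * C.kl.length + C.kl.idxOf x) (Nat.zero_le _)
      (by
        have hc' : c + 1 ≤ C.n := hc
        have := Nat.mul_le_mul_right C.kl.length hc'
        rw [Nat.add_mul] at this
        omega)
    have e1 : (c * C.kl.length + C.kl.idxOf x) / C.kl.length = c := by
      rw [Nat.mul_comm, Nat.mul_add_div hlen, Nat.div_eq_of_lt hj, Nat.add_zero]
    have e2 : (c * C.kl.length + C.kl.idxOf x) % C.kl.length = C.kl.idxOf x := by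
      rw [Nat.mul_comm, Nat.mul_add_mod, Nat.mod_eq_of_lt hj]
    rw [finalOK, e1, e2, List.getD_eq_getElem _ _ hj, List.getElem_idxOf] at hp
    unfold endsAt at hp
    cases hw : C.walk C.nf p 2 (fld p 1) (C.nodeOf c, [x]) with
    | none => rw [hw] at hp; simp at hp
    | some r =>
      rw [hw] at hp
      simp only [Bool.and_eq_true, Nat.beq_eq, List.isEmpty_iff] at hp
      obtain ⟨u, hu, hu'⟩ := walk_sound hS.inv hS.eq good hw
      rw [hp.2.2, List.append_nil] at hu
      dsimp only at hu hu'
      rw [← hu] at hu'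
      simp only [actW] at hu'
      exact ⟨fld p 0, by simpa using hp.1, by rw [hu', hp.2.1]⟩
  have hall : ∀ k ∈ Subgroup.closure {g | ∃ x ∈ C.kl, g = a x}, ∀ q, q ∈ S ↔ k • q ∈ S := by
    intro k hk
    induction hk using Subgroup.closure_induction with
    | mem g hg =>
      obtain ⟨x, hx, rfl⟩ := hg
      intro q
      refine ⟨closed x hx q, fun h => ?_⟩
      have hsur : Set.SurjOn (a x • ·) S S :=
        (hfin.injOn_iff_bijOn_of_mapsTo (closed x hx)).1 ((MulAction.injective (a x)).injOn) |>.surjOn
      obtain ⟨q', hq', e⟩ := hsur h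
      rwa [← MulAction.injective (a x) e]
    | one => intro q; simp
    | mul g g' _ _ ihg ihg' => intro q; rw [mul_smul]; exact (ihg' q).trans (ihg _)
    | inv g _ ihg => intro q; rw [ihg (g⁻¹ • q), smul_inv_smul]
  have horb : ∀ k : K, ∃ c : Fin C.n, (k : G) • v 0 = v (C.nodeOf c) := fun k => by
    obtain ⟨c, hc, e⟩ := (hall _ (hK k.2) _).1 ⟨0, hn.1, congrArg v hn.2.1⟩
    exact ⟨⟨c, hc⟩, e.symm⟩
  choose c hcv using horb
  have hmem : ∀ k : K, (Quotient.out (v (C.nodeOf (c k))))⁻¹ * (k : G) ∈ H := fun k => by
    rw [← QuotientGroup.eq, QuotientGroup.out_eq', ← hcv k, hv0, MulAction.Quotient.smul_coe,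
      smul_eq_mul, mul_one]
  let f : K → Fin C.n × H := fun k => (c k, ⟨_, hmem k⟩)
  have hf : Function.Injective f := fun k k' h => by
    simp only [f, Prod.mk.injEq, Subtype.mk.injEq] at h
    rw [h.1] at h
    exact Subtype.ext (mul_left_cancel h.2)
  refine ⟨Finite.of_injective f hf, ?_⟩
  simpa [Nat.card_prod] using Nat.card_le_card_of_injective f hf

/-- Words traced from the base back to the base are trivial. -/
theorem closer_eq_one (hS : Setup C a) (hb : (Nat.beq (C.nodeOf 0) 0 && Nat.ble C.nd C.nf) = true)
    (hd : forallFrom C.defOK 0 C.nd = true) (hs : C.stepsPart C.allRels 0 C.stepChunks = true)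
    (hsubs : C.subs = []) {L : List (List ℕ × ℕ)} (hL : L.all C.closesOK = true) :
    ∀ e ∈ L, (e.1.reverse.map a).prod = 1 := by
  intro e he
  rw [Bool.and_eq_true] at hb
  obtain ⟨v, hv0, good⟩ := exists_nodes hS hd hs ⊥ (by simp [hsubs])
  have h := List.all_eq_true.1 hL e he
  simp only [closesOK, Bool.and_eq_true, Nat.beq_eq] at h
  obtain ⟨h0, h⟩ := h
  unfold endsAt at h
  cases hw : C.walk C.nf e.2 2 (fld e.2 1) (0, e.1) with
  | none => rw [hw] at h; simp at h
  | some r =>
    rw [hw] at h
    simp only [Bool.and_eq_true, Nat.beq_eq, List.isEmpty_iff] at h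
    obtain ⟨u, hu, hu'⟩ := walk_sound hS.inv hS.eq good hw
    rw [h.2.2, List.append_nil] at hu
    dsimp only at hu hu'
    rw [← hu, h.2.1, h0, Nat.eq_of_beq_eq_true hb.1, hv0, actW_eq, MulAction.Quotient.smul_coe, smul_eq_mul,
      mul_one, QuotientGroup.eq] at hu'
    simpa using hu'

end Cert

end CfsgLib.Sporadic.PairEnum
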