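import Cfsg.Agent.Lib.Recog.SporBound.Check

set_option autoImplicit false

/-!
Closure certificates for coset enumerations with letters in inverse pairs `2i`, `2i+1` (owner: helper25).
Facts are packed as in `CfsgLib.ThreeTrans.CosetIndex`.
-/

namespace CfsgLib.Sporadic.PairEnum

open CfsgLib.ThreeTrans.CosetIndex (fld fsrc fdst flet eqLetter forallFrom)
open CfsgLib.Recog.SporBound (Q)

/-- The inverse letter. -/
noncomputable def flp (x : ℕ) : ℕ := Nat.xor x 1

/-- The inverse word. -/
noncomputable def winv (w : List ℕ) : List ℕ := w.reverse.map flp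

/-- Following one fact in either direction. -/
noncomputable def step (f : ℕ) (s : ℕ × List ℕ) : Option (ℕ × List ℕ) :=
  cond (Nat.beq (flet f) eqLetter)
    (cond (Nat.beq (fsrc f) s.1) (some (fdst f, s.2))
      (cond (Nat.beq (fdst f) s.1) (some (fsrc f, s.2)) none))
    (List.rec (motive := fun _ => Option (ℕ × List ℕ)) none
      (fun y ys _ => cond (Nat.beq (fsrc f) s.1 && Nat.beq y (flet f)) (some (fdst f, ys))
        (cond (Nat.beq (fdst f) s.1 && Nat.beq y (flp (flet f))) (some (fsrc f, ys)) none)) s.2)

/-- A certificate. -/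
structure Cert where
  /-- cosets -/
  n : ℕ
  /-- defining facts -/
  nd : ℕ
  /-- facts -/
  nf : ℕ
  /-- number of letters -/
  nl : ℕ
  /-- letters that are followed -/
  kl : List ℕ
  /-- facts, 128 of 44 bits to a leaf -/
  facts : Q ℕ
  /-- node of each coset, 128 of 20 bits to a leaf -/
  cn : Q ℕ
  /-- derivations, in chunks of 64 -/
  steps : Q (List ℕ)
  /-- closing chains, in chunks of 64 -/
  finals : Q (List ℕ)
  /-- relators -/
  rels : List (List ℕ)
  /-- subgroup words -/
  subs : List (List ℕ)

namespace Cert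

variable (C : Cert)

/-- A fact. -/
noncomputable def fact (i : ℕ) : ℕ :=
  Nat.land (Nat.shiftRight (C.facts.get (Nat.shiftRight i 7)) (Nat.mul 44 (Nat.land i 127))) 17592186044415

/-- The node of a coset. -/
noncomputable def nodeOf (c : ℕ) : ℕ := fld (C.cn.get (Nat.shiftRight c 7)) (Nat.land c 127)

/-- Relators, their inverses, cancelling pairs and the empty word. -/
noncomputable def allRels : List (List ℕ) :=
  C.rels ++ C.rels.map winv ++ ((List.range C.nl).map fun x => [x, flp x]) ++ [[]]

/-- Following `k` items. -/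
noncomputable def walk (lim p off : ℕ) (k : ℕ) (s : ℕ × List ℕ) : Option (ℕ × List ℕ) :=
  Nat.rec (motive := fun _ => Option (ℕ × List ℕ)) (some s)
    (fun j ih => Option.rec none
      (fun s' => cond (Nat.blt (fld p (off + j)) lim) (step (C.fact (fld p (off + j))) s') none) ih) k

/-- A defining fact. -/
noncomputable def defOK (i : ℕ) : Bool :=
  Nat.beq (fdst (C.fact i)) (i + 1) && (Nat.ble (fsrc (C.fact i)) i && !(Nat.beq (flet (C.fact i)) eqLetter))

/-- A derived fact, with the relator list supplied. -/
noncomputable def stepOK (R : List (List ℕ)) (i p : ℕ) : Bool :=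
  let r := fld p 0
  let sh := fld p 1
  let base := fld p 2
  let nf := fld p 3
  let w := cond (Nat.blt r R.length) ((R.getD r []).drop sh ++ (R.getD r []).take sh) (C.subs.getD (r - R.length) [])
  (Nat.blt r R.length || (Nat.beq base 0 && Nat.blt (r - R.length) C.subs.length)) &&
  Option.rec false (fun f => Option.rec false (fun b =>
      Nat.beq (fsrc (C.fact i)) f.1 && (Nat.beq (fdst (C.fact i)) b.1 &&
        match b.2 with
        | [] => Nat.beq (flet (C.fact i)) eqLetter
        | [x] => Nat.beq (flet (C.fact i)) (flp x) && !(Nat.beq (flet (C.fact i)) eqLetter)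
        | _ => false))
      (C.walk i p (5 + nf) (fld p 4) (base, winv f.2)))
    (C.walk i p 5 nf (base, w))

/-- Following a chain that must read a word and end at the node of a coset. -/
noncomputable def endsAt (p s : ℕ) (w : List ℕ) : Bool :=
  Option.rec false (fun r => Nat.blt (fld p 0) C.n && (Nat.beq r.1 (C.nodeOf (fld p 0)) && r.2.isEmpty))
    (C.walk C.nf p 2 (fld p 1) (s, w))

/-- A final chain: coset `i / |kl|`, letter number `i % |kl|`. -/
noncomputable def finalOK (i p : ℕ) : Bool :=
  C.endsAt p (C.nodeOf (i / C.kl.length)) [C.kl.getD (i % C.kl.length) 0]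

/-- A chain that leads a word from the base to the base. -/
noncomputable def closesOK (e : List ℕ × ℕ) : Bool := Nat.beq (fld e.2 0) 0 && C.endsAt e.2 0 e.1

/-- Consecutive entries of a chunk. -/
noncomputable def allIdx (f : ℕ → ℕ → Bool) (L : List ℕ) (start : ℕ) : Bool :=
  List.rec (motive := fun _ => ℕ → Bool) (fun _ => true) (fun p _ ih i => f i p && ih (i + 1)) L start

/-- Checking the chunks `lo, ..., lo + len - 1` of derivations. -/
noncomputable def stepsPart (R : List (List ℕ)) (lo len : ℕ) : Bool :=
  forallFrom (fun k => allIdx (C.stepOK R) (C.steps.get k) (C.nd + 64 * k) &&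
    (Nat.beq (C.steps.get k).length 64 || Nat.ble C.nf (C.nd + 64 * k + (C.steps.get k).length))) lo len

/-- Checking the chunks `lo, ..., lo + len - 1` of final chains. -/
noncomputable def finalsPart (lo len : ℕ) : Bool :=
  forallFrom (fun k => allIdx C.finalOK (C.finals.get k) (64 * k) &&
    (Nat.beq (C.finals.get k).length 64 ||
      Nat.ble (C.n * C.kl.length) (64 * k + (C.finals.get k).length))) lo len

/-- Number of step chunks. -/
def stepChunks : ℕ := (C.nf - C.nd + 63) / 64

/-- Number of final chunks. -/
def finalChunks : ℕ := (C.n * C.kl.length + 63) / 64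

/-- All checks. -/
structure OK : Prop where
  base : (Nat.blt 0 C.n && Nat.beq (C.nodeOf 0) 0 && Nat.ble C.nd C.nf) = true
  defs : forallFrom C.defOK 0 C.nd = true
  steps : C.stepsPart C.allRels 0 C.stepChunks = true
  finals : C.finalsPart 0 C.finalChunks = true

theorem stepsPart_cat {R : List (List ℕ)} {s l₁ m l₂ l : ℕ} (h₁ : C.stepsPart R s l₁ = true)
    (h₂ : C.stepsPart R m l₂ = true) (hm : Nat.beq (s + l₁) m = true) (hl : Nat.beq (l₁ + l₂) l = true) :
    C.stepsPart R s l = true :=
  CfsgLib.Recog.SporBound.forallFrom_cat h₁ h₂ hm hl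

theorem finalsPart_cat {s l₁ m l₂ l : ℕ} (h₁ : C.finalsPart s l₁ = true) (h₂ : C.finalsPart m l₂ = true)
    (hm : Nat.beq (s + l₁) m = true) (hl : Nat.beq (l₁ + l₂) l = true) : C.finalsPart s l = true :=
  CfsgLib.Recog.SporBound.forallFrom_cat h₁ h₂ hm hl

end Cert

end CfsgLib.Sporadic.PairEnum
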